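import Mathlib
import Groth.Prelude.Def_LieS
import Groth.Prelude.Def_CurvBase
import Groth.Agent.ConormalSecLib.Split
import Groth.Agent.ConormalSecLib.GrpSch
import Groth.Agent.S9371
import Groth.Agent.S9372
import Groth.Agent.CurvLib.Euler
import Groth.Agent.NefH1Lib.Core

/-!
# Degrees of invariant differentials of subgroups
-/

set_option autoImplicit false
set_option backward.isDefEq.respectTransparency false
set_option backward.isDefEq.respectTransparency.types false
set_option linter.style.haveILetI false
set_option maxHeartbeats 800000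

universe u

open CategoryTheory CategoryTheory.Limits AlgebraicGeometry MonoidalCategory CartesianMonoidalCategory MonObj

noncomputable section

namespace CanDegLib

variable {S : Scheme.{u}}

theorem unit_qc (G : Over S) [GrpObj G] [QuasiSeparated G.hom] : IsImmersion η[G].left ∧ QuasiCompact η[G].left := by
  haveI : QuasiCompact (η[G].left ≫ G.hom) := by
    rw [ConormalSecLib.unit_left_hom]; exact @AlgebraicGeometry.quasiCompact_of_isIso _ _ _ (CategoryTheory.IsIso.id S)
  haveI : IsImmersion (η[G].left ≫ G.hom) := by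
    rw [ConormalSecLib.unit_left_hom]; exact (inferInstance : IsImmersion (𝟙 S))
  exact ⟨IsImmersion.of_comp η[G].left G.hom, QuasiCompact.of_comp η[G].left G.hom⟩

theorem nonempty_omega_iso (G : Over S) [GrpObj G] [QuasiSeparated G.hom] :
    Nonempty (LieS.omega G ≅ Omega.conormal η[G].left) := by
  haveI := (unit_qc G).1
  haveI := (unit_qc G).2
  obtain ⟨κ⟩ := ConormalSecLib.nonempty_conormal_iso η[G].left G.hom (ConormalSecLib.unit_left_hom G)
    (OmegaAffLib.isUniversal_dOmega (f := G.hom))
  exact ⟨κ.symm⟩

/-- A closed subgroup gives an epimorphism on invariant differentials. -/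
theorem exists_epi_omega (G P : Over S) [GrpObj G] [GrpObj P] [QuasiSeparated G.hom] (i : P ⟶ G) [IsMonHom i]
    [IsClosedImmersion i.left] : ∃ q : LieS.omega G ⟶ LieS.omega P, Epi q := by
  haveI : QuasiSeparated P.hom := by rw [← Over.w i]; infer_instance
  haveI := (unit_qc G).1
  haveI := (unit_qc G).2
  haveI := (unit_qc P).1
  haveI := (unit_qc P).2
  have he : η[P].left ≫ i.left = η[G].left := by rw [← Over.comp_left, IsMonHom.one_hom]
  have hsq : IsPullback η[P].left (𝟙 S) i.left η[G].left :=
    IsPullback.of_isLimit' ⟨by rw [he]; exact (Category.id_comp _).symm⟩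
      (PullbackCone.isLimitAux' _ fun s => ⟨s.snd, by
        rw [← cancel_mono i.left, Category.assoc]
        exact (congrArg (fun t => s.snd ≫ t) he).trans s.condition.symm,
        Category.comp_id _, fun _ h2 => (Category.comp_id _).symm.trans h2⟩)
  obtain ⟨φ, hφ, -⟩ := Groth.Agent.S9371.result η[P].left η[G].left i.left (𝟙 S) hsq.w.symm
  haveI := (Groth.Agent.S9372.result η[P].left η[G].left i.left (𝟙 S) hsq φ hφ).1
  obtain ⟨a⟩ := nonempty_omega_iso G
  obtain ⟨b⟩ := nonempty_omega_iso P
  exact ⟨a.hom ≫ (Scheme.Modules.pullbackId S).inv.app _ ≫ φ ≫ b.inv, inferInstance⟩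

/-- A quotient on a curve has Euler characteristic at least `-h¹` of the module. -/
theorem euler_ge {k : Type u} [Field k] {X : Scheme.{u}} [X.Over (Spec (CommRingCat.of k))]
    [IsProper (X ↘ Spec (CommRingCat.of k))] (hdim : topologicalKrullDim X = 1) {E Q : X.Modules} (q : E ⟶ Q) [Epi q]
    (hE : Coh.IsCoh E) (hQ : Coh.IsCoh Q) :
    -(Module.finrank k (Coh.HH X E 1) : ℤ) ≤ Curv2.euler k X Q := by
  haveI := CurvLib.isNoetherian k (X := X)
  have hv : ∀ (N : X.Modules) (n : ℕ), 2 ≤ n → Subsingleton (Coh.HH X N n) := fun N n hn =>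
    CurvLib.subsingleton_HH_of_dim_le N (d := 1) hdim.le n (by omega)
  rw [CurvLib.euler_eq_sub (hv Q)]
  haveI := CurvLib.finite_HH (k := k) hE 1
  have hS := NefH1Lib.kernel_shortExact q
  have hsurj : Function.Surjective (CurvLib.hMap (k := k) q 1) := by
    intro y
    haveI := hv (kernel q) 2 le_rfl
    exact (CurvLib.exact₃ (k := k) hS 1).ge (LinearMap.mem_ker.2 (Subsingleton.elim _ _))
  have := LinearMap.finrank_le_finrank_of_surjective hsurj
  omega

end CanDegLib

end
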