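import Mathlib
import Groth.Prelude.Def_Red
import Groth.Agent.CanDegLib.Main
import Groth.Agent.S1025
import Groth.Agent.CurveBCLib.Twist
import Groth.Agent.CurveDualLib.BaseChange
import Groth.Agent.CohCmpLib.HomLift
import Groth.Agent.LineSemiLib.Main
import Groth.Agent.GrowthLib.Semiample
import Groth.Agent.KFlatLib.QCohPull

/-!
# Fibrewise bounds
-/

set_option autoImplicit false
set_option backward.isDefEq.respectTransparency false
set_option backward.isDefEq.respectTransparency.types false
set_option linter.style.haveILetI false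
set_option maxHeartbeats 800000

universe u

open CategoryTheory CategoryTheory.Limits AlgebraicGeometry MonoidalCategory CartesianMonoidalCategory MonObj
open KFlatLib (pb)
open DevissLib (St)
open scoped TensorProduct

noncomputable section

namespace CanDegLib

/-- Fibre cohomology is bounded over a quasi-compact base. -/
theorem exists_betti_le {X S : Scheme.{u}} [CompactSpace S] (p : X ⟶ S) [IsProper p] [LocallyOfFinitePresentation p]
    (F : X.Modules) (hF : CohB1.IsFP F) (hfl : FlatMod.IsFlatOver p F) (i : ℕ) :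
    ∃ N : ℕ, ∀ s : S, PerfAux.betti p F s i ≤ N := by
  obtain ⟨t, ht⟩ := isCompact_univ.elim_finite_subcover (fun n : ℕ => {s : S | PerfAux.betti p F s i < n})
    (fun n => Groth.Agent.S1025.result p F hF hfl i n)
    (fun s _ => Set.mem_iUnion.2 ⟨PerfAux.betti p F s i + 1, Nat.lt_succ_self _⟩)
  refine ⟨t.sup id, fun s => ?_⟩
  obtain ⟨n, hn, hs⟩ := Set.mem_iUnion₂.1 (ht (Set.mem_univ s))
  exact le_of_lt (lt_of_lt_of_le hs (Finset.le_sup (f := id) hn))

/-- Cohomology over a field-valued point is that of the fibre. -/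
theorem finrank_point {X S : Scheme.{u}} (p : X ⟶ S) [IsProper p] {F : X.Modules} (hF : Coh.IsQCoh F)
    (K : Type u) [Field K] (x : Spec (CommRingCat.of K) ⟶ S) :
    ∃ s : S, ∀ i : ℕ,
      letI : (pullback p x).Over (Spec (CommRingCat.of K)) := ⟨pullback.snd p x⟩
      Module.finrank K (Coh.HH (pullback p x) (pb (pullback.fst p x) F) i) = PerfAux.betti p F s i := by
  refine ⟨x (IsLocalRing.closedPoint K), fun i => ?_⟩
  let s := x (IsLocalRing.closedPoint K)
  let k : Type u := S.residueField s
  let φ : S.residueField s ⟶ CommRingCat.of K := Scheme.descResidueField (Scheme.stalkClosedPointTo x)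
  letI : Algebra k K := φ.hom.toAlgebra
  have hφ : Spec.map φ ≫ S.fromSpecResidueField s = x :=
    Scheme.descResidueField_stalkClosedPointTo_fromSpecResidueField K S x
  let Z := p.fiber s
  letI : Z.Over (Spec (CommRingCat.of k)) := ⟨p.fiberToSpecResidueField s⟩
  letI : (pullback p x).Over (Spec (CommRingCat.of K)) := ⟨pullback.snd p x⟩
  haveI : IsProper (Z ↘ Spec (CommRingCat.of k)) := MorphismProperty.pullback_snd p _ inferInstance
  let m : pullback p x ⟶ Z := pullback.lift (pullback.fst p x) (pullback.snd p x ≫ Spec.map φ)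
    (by rw [Category.assoc, hφ]; exact pullback.condition)
  have hm : m ≫ p.fiberι s = pullback.fst p x := pullback.lift_fst _ _ _
  have hsq : IsPullback m ((pullback p x) ↘ Spec (CommRingCat.of K)) (Z ↘ Spec (CommRingCat.of k))
      (Spec.map (CommRingCat.ofHom (algebraMap k K))) := by
    refine IsPullback.of_right (h₁₂ := p.fiberι s) (h₂₂ := S.fromSpecResidueField s) ?_
      (pullback.lift_snd _ _ _) (IsPullback.of_hasPullback p _)
    rw [hm]
    show IsPullback (pullback.fst p x) (pullback.snd p x) p (Spec.map φ ≫ S.fromSpecResidueField s)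
    rw [hφ]
    exact IsPullback.of_hasPullback p x
  haveI := hF
  have hq : Coh.IsQCoh (pb (p.fiberι s) F) := KFlatLib.isQCoh_pullback _ F
  let e : pb m (pb (p.fiberι s) F) ≅ pb (pullback.fst p x) F :=
    (Scheme.Modules.pullbackComp _ _).app F ≪≫ (Scheme.Modules.pullbackCongr hm).app F
  rw [← (CurvLib.hIso (k := K) e i).finrank_eq, CurveBCLib.finrank_HH_sq (k := k) (K := K) hsq hq i]
  rfl

theorem unit_bc {S S' : Scheme.{u}} (t : S' ⟶ S) (G : Over S) [GrpObj G] :
    (η[Red.bc t G] : 𝟙_ (Over S') ⟶ Red.bc t G).left ≫ pullback.fst G.hom t =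
      t ≫ (η[G] : 𝟙_ (Over S) ⟶ G).left := by
  have := congrArg (fun f => f.left ≫ pullback.fst G.hom t) (Functor.obj.η_def (F := Over.pullback t) (X := G))
  refine this.trans ?_
  simp only [Over.comp_left, Category.assoc]
  erw [pullback.lift_fst]
  rw [← Category.assoc]
  congr 1
  simp

/-- Invariant differentials commute with base change. -/
theorem nonempty_omega_bc {S S' : Scheme.{u}} (t : S' ⟶ S) (G : Over S) [GrpObj G] [QuasiSeparated G.hom] :
    Nonempty (LieS.omega (Red.bc t G) ≅ pb t (LieS.omega G)) := by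
  haveI : QuasiSeparated (Red.bc t G).hom := MorphismProperty.pullback_snd G.hom t inferInstance
  obtain ⟨c⟩ := CurveDualLib.nonempty_omega_pullback G.hom t (pullback.fst G.hom t) (Red.bc t G).hom
    (IsPullback.of_hasPullback G.hom t)
  exact ⟨(Scheme.Modules.pullback _).mapIso c.symm ≪≫ (Scheme.Modules.pullbackComp _ _).app _ ≪≫
    (Scheme.Modules.pullbackCongr (unit_bc t G)).app _ ≪≫ ((Scheme.Modules.pullbackComp _ _).app _).symm⟩

/-- Quotient bundles of pullbacks have bounded rank. -/
theorem exists_rank_le {X : Scheme.{u}} [CompactSpace X] {E : X.Modules} (hE : FlatMod.IsFinLocFree E) :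
    ∃ m : ℕ, ∀ {Z : Scheme.{u}} [Nonempty Z] (g : Z ⟶ X) {E' Q : Z.Modules} (_ : E' ≅ pb g E) (q : E' ⟶ Q) [Epi q]
      (n : ℕ), FlatMod.IsFinLocFreeOfRank n Q → n ≤ m := by
  choose U m hxU he using hE
  obtain ⟨t, ht⟩ := isCompact_univ.elim_finite_subcover (fun x : X => (U x : Set X)) (fun x => (U x).isOpen)
    (fun x _ => Set.mem_iUnion.2 ⟨x, hxU x⟩)
  refine ⟨t.sup m, fun {Z} _ g {E' Q} e q _ n hn => ?_⟩
  obtain ⟨z⟩ := (inferInstance : Nonempty Z)
  obtain ⟨y, hy, hzy⟩ := Set.mem_iUnion₂.1 (ht (Set.mem_univ (g z)))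
  obtain ⟨tE⟩ := CurveVBLib.nonempty_stalk_pi_on (he y).some hzy
  letI := (g.stalkMap z).hom.toAlgebra
  obtain ⟨L, -, -, -, -⟩ := CohCmpLib.exists_homPull_stalk (M := E) (P := E) g z
  have L' : Z.presheaf.stalk z ⊗[X.presheaf.stalk (g z)] (Fin (m y) → X.presheaf.stalk (g z)) ≃ₗ[Z.presheaf.stalk z]
      (St z).obj (pb g E) := (LinearEquiv.baseChange _ (Z.presheaf.stalk z) _ _ tE).symm.trans L
  haveI := Module.Finite.equiv L'
  haveI : Module.Free (Z.presheaf.stalk z) ((St z).obj (pb g E)) := Module.Free.of_equiv L'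
  have hf : Module.finrank (Z.presheaf.stalk z) ((St z).obj (pb g E)) = m y := by
    rw [← L'.finrank_eq, Module.finrank_baseChange, Module.finrank_fin_fun]
  have hs : Function.Surjective ((St z).map (e.inv ≫ q)).hom := by
    haveI : Epi (e.inv ≫ q) := inferInstance
    exact GrowthLib.surjective_St_of_epi _ z
  have h := LinearMap.finrank_le_finrank_of_surjective hs
  rw [LineSemiLib.finrank_stalk_of_rank hn, hf] at h
  exact h.trans (Finset.le_sup (f := m) hy)

/-- Bundles are flat over the base of a flat morphism. -/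
theorem isFlatOver_of_locFree {X S : Scheme.{u}} (f : X ⟶ S) [Flat f] {G : X.Modules}
    (hG : FlatMod.IsFinLocFree G) : FlatMod.IsFlatOver f G := by
  intro x
  letI : Algebra (S.presheaf.stalk (f x)) (X.presheaf.stalk x) := (f.stalkMap x).hom.toAlgebra
  haveI : Module.Flat (S.presheaf.stalk (f x)) (X.presheaf.stalk x) := Flat.stalkMap f x
  obtain ⟨U, r, hx, ⟨e₀⟩⟩ := hG x
  obtain ⟨e⟩ := CurveVBLib.nonempty_stalk_pi_on e₀ hx
  letI : Module (S.presheaf.stalk (f x)) (G.presheaf.stalk x) := FlatMod.moduleStalkOver f G x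
  let e' : (G.presheaf.stalk x) ≃ₗ[S.presheaf.stalk (f x)] (Fin r → X.presheaf.stalk x) :=
    { e.toAddEquiv with map_smul' := fun c a => (e.map_smul ((f.stalkMap x).hom c) a).trans (by
        funext i
        exact (Algebra.smul_def c _).symm) }
  show Module.Flat (S.presheaf.stalk (f x)) (G.presheaf.stalk x)
  haveI : Module.Flat (S.presheaf.stalk (f x)) (Fin r → X.presheaf.stalk x) :=
    Module.Flat.of_linearEquiv (TensorProduct.piScalarRight (S.presheaf.stalk (f x)) (S.presheaf.stalk (f x))
      (X.presheaf.stalk x) (Fin r)).symm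
  exact Module.Flat.of_linearEquiv e'

end CanDegLib

end
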